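import Groth.Agent.VertChiLib.Fibre
import Groth.Agent.VertChiLib.Flat
import Groth.Agent.CycKSuppLib.Killed
import Groth.Agent.BlowPtLib.Plane
import Groth.Agent.NumTrivLib.Transfer
import Groth.Agent.S4666
import Groth.Agent.S1528
import Groth.Agent.CohCmpLib.EulerFibre
import Groth.Agent.BlowRegLib.ExcThick
import Groth.Agent.IntMultLib.Asymp

/-! A multiple special fibre divides the Euler characteristic of the generic fibre. -/

set_option autoImplicit false
set_option maxHeartbeats 1000000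
set_option backward.isDefEq.respectTransparency false
set_option backward.isDefEq.respectTransparency.types false

universe u

open CategoryTheory CategoryTheory.Limits AlgebraicGeometry TopologicalSpace IsLocalRing Opposite
open KFlatLib (pb)

noncomputable section

namespace MultFibLib

/-- An ideal generated by one regular global function is trivial as a module. -/
theorem nonempty_idealMod_of_principal {X : Scheme.{u}} (J : X.IdealSheafData) (a : Γ(X, ⊤))
    (hJ : ∀ U : X.affineOpens, J.ideal U = Ideal.span {X.presheaf.map (homOfLE (le_top : U.1 ≤ ⊤)).op a})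
    (hreg : ∀ U : X.affineOpens, ∀ x y : Γ(X, U.1),
      X.presheaf.map (homOfLE (le_top : U.1 ≤ ⊤)).op a * x = X.presheaf.map (homOfLE (le_top : U.1 ≤ ⊤)).op a * y → x = y) :
    Nonempty (ClSub.idealMod J ≅ Coh.structureModule X) := by
  let μ := StabLib.smulHom (Coh.structureModule X) a
  have happ : ∀ (U : X.Opens) (m : Γ(X, U)), μ.app U m = X.presheaf.map (homOfLE (le_top : U ≤ ⊤)).op a * m :=
    fun U m => by
      show (StabLib.smulHom (Coh.structureModule X) a).app U m = _
      rw [StabLib.smulHom_app]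
      rfl
  have w : μ ≫ ClSub.toSubscheme J = 0 := by
    refine Scheme.Modules.hom_ext _ _ fun U => ?_
    refine ConcreteCategory.hom_ext _ _ fun m => ?_
    show (ClSub.toSubscheme J).app U (μ.app U m) = 0
    rw [happ]
    show (J.subschemeι.app U).hom (_ * _) = 0
    rw [map_mul]
    have h0 : J.subschemeι.appTop.hom a = 0 := by
      refine J.subscheme.sheaf.eq_of_locally_eq' (fun V : X.affineOpens => J.subschemeι ⁻¹ᵁ V.1) ⊤
        (fun V => homOfLE le_top) (fun z _ => ?_) _ _ fun V => ?_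
      · obtain ⟨O, hO, hzO, -⟩ := exists_isAffineOpen_mem_and_subset (X := X) (x := J.subschemeι z) (U := ⊤) trivial
        exact Opens.mem_iSup.2 ⟨⟨O, hO⟩, hzO⟩
      · rw [map_zero]
        refine (ConcreteCategory.congr_hom (J.subschemeι.naturality (homOfLE (le_top : V.1 ≤ ⊤)).op) a).symm.trans ?_
        exact (IntMultLib.toSubscheme_app_eq_zero_iff J V _).2 (by rw [hJ]; exact Ideal.mem_span_singleton_self _)
    rw [show (J.subschemeι.app U).hom (X.presheaf.map (homOfLE (le_top : U ≤ ⊤)).op a) = 0 from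
      (ConcreteCategory.congr_hom (J.subschemeι.naturality (homOfLE (le_top : U ≤ ⊤)).op) a).trans
        ((congrArg _ h0).trans (map_zero (J.subscheme.presheaf.map _).hom)), zero_mul]
  let h := kernel.lift (ClSub.toSubscheme J) μ w
  haveI : IsIso h := QCohLib.isIso_of_bijective_affine h fun U hU => by
    have hcomp : ∀ m : Γ(X, U), (ClSub.idealModι J).app U (h.app U m) = μ.app U m :=
      fun m => ConcreteCategory.congr_hom (congrArg (fun φ : Coh.structureModule X ⟶ Coh.structureModule X => φ.app U)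
        (kernel.lift_ι (ClSub.toSubscheme J) μ w)) m
    refine ⟨fun x y hxy => hreg ⟨U, hU⟩ x y ((happ U x).symm.trans ((hcomp x).symm.trans
      ((congrArg _ hxy).trans ((hcomp y).trans (happ U y))))), fun t => ?_⟩
    have hmem : (show Γ(X, U) from (ClSub.idealModι J).app U t) ∈ J.ideal ⟨U, hU⟩ :=
      (IntMultLib.toSubscheme_app_eq_zero_iff J ⟨U, hU⟩ _).mp
        (ConcreteCategory.congr_hom (congrArg (fun φ : ClSub.idealMod J ⟶ ClSub.quotMod J => φ.app U)
          (kernel.condition (ClSub.toSubscheme J))) t)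
    rw [hJ, Ideal.mem_span_singleton'] at hmem
    obtain ⟨(r : Γ(X, U)), hr⟩ := hmem
    refine ⟨r, ?_⟩
    have : Mono (ClSub.idealModι J) := (CurvLib.idealSeq_shortExact _).mono_f
    refine QCohLib.app_injective_of_mono (ClSub.idealModι J) U ?_
    refine (hcomp r).trans ((happ U r).trans ?_)
    exact (mul_comm _ r).trans hr
  exact ⟨(asIso h).symm⟩

variable {R : Type u} [CommRing R] [IsDomain R] [IsDiscreteValuationRing R]

/-- The special fibre of a flat scheme over a discrete valuation ring has trivial ideal module. -/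
theorem nonempty_idealMod_specialFibre (X : Over (Spec (CommRingCat.of R))) [Flat X.hom] :
    Nonempty (ClSub.idealMod (Models.specialFibreIdeal R X) ≅ Coh.structureModule X.left) := by
  obtain ⟨ϖ, hϖ⟩ := IsDiscreteValuationRing.exists_irreducible R
  let ρ := (Scheme.ΓSpecIso (CommRingCat.of R)).commRingCatIsoToRingEquiv
  refine nonempty_idealMod_of_principal _ (X.hom.appTop (ρ.symm ϖ)) (fun U => ?_) (fun U x y hxy => ?_)
  · rw [Models.specialFibreIdeal, Groth.Agent.S4666.ideal_comap_eq _ X.hom ⟨⊤, isAffineOpen_top _⟩ U le_top,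
      Curv2.idealSheaf, Scheme.IdealSheafData.ofIdealTop_ideal, hϖ.maximalIdeal_eq]
    simp only [Ideal.map_map, Ideal.map_span, Set.image_singleton]
    congr 1
  · let φ := (X.hom.appLE ⊤ U.1 le_top).hom
    have hfl : φ.Flat := X.hom.flat_appLE (isAffineOpen_top _) U.2 le_top
    letI := φ.toAlgebra
    haveI : Module.Flat Γ(Spec (CommRingCat.of R), ⊤) Γ(X.left, U.1) := hfl
    have hne : ρ.symm ϖ ≠ 0 := fun h => hϖ.ne_zero (by simpa using congrArg ρ h)
    haveI : IsDomain Γ(Spec (CommRingCat.of R), ⊤) := ρ.toMulEquiv.isDomain R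
    exact smul_right_injective Γ(X.left, U.1) hne (show φ (ρ.symm ϖ) * x = φ (ρ.symm ϖ) * y from hxy)

/-- The `κ`-Euler characteristic of the restriction to a scheme over `κ`. -/
abbrev χZ {X Z : Scheme.{u}} (κ : Type u) [Field κ] [Z.Over (Spec (CommRingCat.of κ))] (ι : Z ⟶ X) (F : X.Modules) : ℤ :=
  Curv2.euler κ Z (pb ι F)

theorem χZ_add {κ : Type u} [Field κ] {X Z : Scheme.{u}} [IsLocallyNoetherian X] [Z.Over (Spec (CommRingCat.of κ))]
    [IsProper (Z ↘ Spec (CommRingCat.of κ))] (ι : Z ⟶ X) [IsClosedImmersion ι] {S : ShortComplex X.Modules}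
    (hS : S.ShortExact) (h₂ : Coh.IsCoh S.X₂) (hk : CycKSuppLib.Kil ι S.X₂) (h₁ : Coh.IsCoh S.X₁)
    (h₃ : Coh.IsCoh S.X₃) : χZ κ ι S.X₂ = χZ κ ι S.X₁ + χZ κ ι S.X₃ := by
  haveI := hS.mono_f
  haveI := hS.epi_g
  have hk₁ := hk.of_mono S.f
  have hk₃ := hk.of_epi S.g
  haveI := ProjClosedImmLib.preservesHomology_push ι
  let P' := Scheme.Modules.pushforward ι
  let S' := S.map (Scheme.Modules.pullback ι)
  have u1 := DevissLib.isIso_unit_of_killed ι (F := S.X₁) hk₁.killed
  have u2 := DevissLib.isIso_unit_of_killed ι (F := S.X₂) hk.killed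
  have u3 := DevissLib.isIso_unit_of_killed ι (F := S.X₃) hk₃.killed
  let e : S ≅ S'.map P' := ShortComplex.isoMk
    (@asIso _ _ _ _ ((Scheme.Modules.pullbackPushforwardAdjunction ι).unit.app S.X₁) u1)
    (@asIso _ _ _ _ ((Scheme.Modules.pullbackPushforwardAdjunction ι).unit.app S.X₂) u2)
    (@asIso _ _ _ _ ((Scheme.Modules.pullbackPushforwardAdjunction ι).unit.app S.X₃) u3)
    (((Scheme.Modules.pullbackPushforwardAdjunction ι).unit.naturality S.f).symm)
    (((Scheme.Modules.pullbackPushforwardAdjunction ι).unit.naturality S.g).symm)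
  have hS' : (S'.map P').ShortExact := ShortComplex.shortExact_of_iso e hS
  haveI : Mono S'.f := P'.mono_of_mono_map hS'.mono_f
  haveI : Epi S'.g := P'.epi_of_epi_map hS'.epi_g
  have hexact : S'.Exact := (S'.exact_map_iff_of_faithful P').1 hS'.exact
  exact CurvLib.euler_add_of_isCoh (k := κ) (S := S') { exact := hexact, mono_f := inferInstance, epi_g := inferInstance }
    (CycKSuppLib.isCoh_pull ι h₁ hk₁) (CycKSuppLib.isCoh_pull ι h₂ hk) (CycKSuppLib.isCoh_pull ι h₃ hk₃)

/-- A polynomial function constant on the multiples of `m` is constant. -/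
theorem polynomial_const {m : ℕ} (hm : 1 ≤ m) (P : Polynomial ℚ) (c : ℚ)
    (h : ∀ t : ℕ, P.eval ((t * m : ℕ) : ℚ) = c) (j : ℚ) : P.eval j = c := by
  have : P = Polynomial.C c := by
    refine Polynomial.eq_of_infinite_eval_eq _ _ (Set.infinite_of_injective_forall_mem
      (f := fun t : ℕ => ((t * m : ℕ) : ℚ)) (fun a b hab => ?_) fun t => ?_)
    · exact Nat.eq_of_mul_eq_mul_right hm (Nat.cast_injective hab)
    · simpa using h t
  rw [this, Polynomial.eval_C]

/-- Euler characteristics of the powers of a torsion line bundle are constant. -/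
theorem euler_tensorPow_of_torsion (κ : Type u) [Field κ] (D : Scheme.{u}) [D.Over (Spec (CommRingCat.of κ))]
    [IsProper (D ↘ Spec (CommRingCat.of κ))] {d : ℕ} (hd : topologicalKrullDim D ≤ d) (N : D.Modules)
    (hN : PicF.IsInvertible N) {m : ℕ} (hm : 1 ≤ m)
    (htriv : Nonempty (CohB1.tensorPow N m ≅ Coh.structureModule D)) (j : ℕ) :
    Curv2.euler κ D (CohB1.tensorPow N j) = Curv2.euler κ D (Coh.structureModule D) := by
  haveI := CurvLib.isNoetherian κ (X := D)
  obtain ⟨e⟩ := htriv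
  obtain ⟨P, -, hP⟩ := Groth.Agent.S1528.result κ D (Coh.structureModule D) (DevissLib.isCoh_structureModule D) d
    (Topology.IsInducing.subtypeVal.topologicalKrullDim_le.trans hd) 1 (fun _ => N) (fun _ => hN)
  have hev : ∀ n : ℕ, (Curv2.euler κ D (CohB1.tensorPow N n) : ℚ) =
      (MvPolynomial.aeval (fun _ : Fin 1 => (Polynomial.X : Polynomial ℚ)) P).eval (n : ℚ) := by
    intro n
    have e0 : Nonempty (Curv2.tensorPows (Coh.structureModule D) 1 (fun _ => N) (fun _ => n) ≅ CohB1.tensorPow N n) :=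
      ⟨HilbPolyLib.unitLeft _⟩
    rw [← CurvLib.euler_congr (k := κ) e0.some, hP (fun _ => n)]
    have key : ∀ Q : MvPolynomial (Fin 1) ℚ, MvPolynomial.eval (fun _ => (n : ℚ)) Q =
        (MvPolynomial.aeval (fun _ : Fin 1 => (Polynomial.X : Polynomial ℚ)) Q).eval (n : ℚ) := by
      intro Q
      induction Q using MvPolynomial.induction_on with
      | C a => simp
      | add p q hp hq => simp [hp, hq]
      | mul_X p i hp => simp [hp]
    exact key P
  have hmul : ∀ t : ℕ, Nonempty (CohB1.tensorPow N (t * m) ≅ Coh.structureModule D) := by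
    intro t
    induction t with
    | zero => rw [Nat.zero_mul]; exact ⟨Iso.refl _⟩
    | succ t ih =>
      obtain ⟨a⟩ := ih
      rw [Nat.succ_mul]
      obtain ⟨f⟩ := IntMultLib.nonempty_tensorPow_add N (t * m) m
      exact ⟨f ≪≫ HilbPolyLib.congrLeft a _ ≪≫ HilbPolyLib.unitLeft _ ≪≫ e⟩
  have key := polynomial_const hm _ (Curv2.euler κ D (Coh.structureModule D) : ℚ) (fun t => by
    rw [← hev, CurvLib.euler_congr (k := κ) (hmul t).some]) (j : ℚ)
  rw [← hev] at key
  exact_mod_cast key

/-- The special fibre, `m` times a Cartier divisor, has Euler characteristic `m` times that of the divisor. -/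
theorem dvd_euler {κ : Type u} [Field κ] {X Z : Scheme.{u}} [IsNoetherian X] [Z.Over (Spec (CommRingCat.of κ))]
    [IsProper (Z ↘ Spec (CommRingCat.of κ))] (ι : Z ⟶ X) [IsClosedImmersion ι] (I : X.IdealSheafData)
    (hI : BlowUp.IsEffCartierIdeal I) (m : ℕ) (hm : 1 ≤ m) (hIm : I ^ m = ι.ker)
    (htriv : Nonempty (ClSub.idealMod ι.ker ≅ Coh.structureModule X)) {d : ℕ} (hd : topologicalKrullDim Z ≤ d) :
    (m : ℤ) ∣ Curv2.euler κ Z (Coh.structureModule Z) := by
  have hle : ∀ j : ℕ, j ≤ m → ι.ker ≤ I ^ j := fun j hj => hIm ▸ pow_le_pow_right_of_le_one' le_top hj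
  have hle1 : ι.ker ≤ I.subschemeι.ker := by
    rw [Scheme.IdealSheafData.ker_subschemeι]
    simpa using hle 1 hm
  let jD : I.subscheme ⟶ Z := IsClosedImmersion.lift ι I.subschemeι hle1
  have hjD : jD ≫ ι = I.subschemeι := IsClosedImmersion.lift_fac _ _ _
  haveI : IsClosedImmersion (jD ≫ ι) := hjD ▸ inferInstance
  haveI : IsClosedImmersion jD := IsClosedImmersion.of_comp jD ι
  letI : I.subscheme.Over (Spec (CommRingCat.of κ)) := ⟨jD ≫ (Z ↘ Spec (CommRingCat.of κ))⟩
  haveI : IsProper (I.subscheme ↘ Spec (CommRingCat.of κ)) :=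
    inferInstanceAs (IsProper (jD ≫ (Z ↘ Spec (CommRingCat.of κ))))
  haveI := CurvLib.isNoetherian κ (X := Z)
  haveI := CurvLib.isNoetherian κ (X := I.subscheme)
  let N := pb I.subschemeι (ClSub.idealMod I)
  have hN : PicF.IsInvertible N := AmpleDevLib.isInvertible_pb _ (IntMultLib.isInvertible_idealMod I hI)
  have hpow : ∀ j : ℕ, Nonempty (pb I.subschemeι (ClSub.idealMod (I ^ j)) ≅ CohB1.tensorPow N j) := by
    intro j
    induction j with
    | zero =>
      obtain ⟨-, ⟨a⟩⟩ := BlowPtLib.nonempty_idealMod_pow I hI 0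
      exact ⟨(Scheme.Modules.pullback I.subschemeι).mapIso a.symm ≪≫ KFlatLib.pullUnitIso _⟩
    | succ j ih =>
      obtain ⟨b⟩ := ih
      obtain ⟨h, -⟩ := BlowPtLib.nonempty_idealMod_pow I hI j
      obtain ⟨c⟩ := SurfNumLib.nonempty_idealMod_mul h hI
      rw [pow_succ]
      exact ⟨(Scheme.Modules.pullback I.subschemeι).mapIso c.symm ≪≫ PicPnLib.pullTens _ _ _ ≪≫
        HilbPolyLib.congrLeft b _⟩
  have htor : Nonempty (CohB1.tensorPow N m ≅ Coh.structureModule I.subscheme) := by
    obtain ⟨a⟩ := hpow m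
    obtain ⟨b⟩ := htriv
    rw [hIm] at a
    exact ⟨a.symm ≪≫ (Scheme.Modules.pullback I.subschemeι).mapIso b ≪≫ KFlatLib.pullUnitIso _⟩
  have hdD : topologicalKrullDim I.subscheme ≤ d := le_trans jD.isEmbedding.isInducing.topologicalKrullDim_le hd
  have hkil : ∀ j : ℕ, j ≤ m → CycKSuppLib.Kil ι (ClSub.quotMod (I ^ j)) := by
    intro j hj
    refine CycKSuppLib.kil_of_killed ι fun U a ha x => ?_
    refine CycKSuppLib.killed_push (I ^ j).subschemeι (Coh.structureModule _) U a ?_ x
    rw [Scheme.IdealSheafData.ker_subschemeι]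
    exact hle j hj U ha
  have hmain : ∀ j : ℕ, j ≤ m → χZ κ ι (ClSub.quotMod (I ^ j)) =
      j * Curv2.euler κ I.subscheme (Coh.structureModule I.subscheme) := by
    intro j
    induction j with
    | zero =>
      intro _
      rw [pow_zero]
      have hz : IsZero (pb ι (ClSub.quotMod (1 : X.IdealSheafData))) :=
        (Scheme.Modules.pullback ι).map_isZero VertChiLib.quotMod_one
      rw [Nat.cast_zero, zero_mul, χZ, CurvLib.euler_eq_sum (k := κ) (d := 0)
        (fun q _ => BlowRegLib.sub_zero_mod hz q)]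
      simp
    | succ j ih =>
      intro hj
      obtain ⟨hIj, -⟩ := BlowPtLib.nonempty_idealMod_pow I hI j
      obtain ⟨S, hS, ⟨e1⟩, ⟨e2⟩, ⟨e3⟩⟩ := SurfAmpleLib.exists_quotSeq hIj hI
      rw [← pow_succ] at e2
      have hinv : PicF.IsInvertible (ClSub.idealMod (I ^ j)) := IntMultLib.isInvertible_idealMod _ hIj
      have hc1 : Coh.IsCoh S.X₁ := QCohLib.isCoh_of_iso e1.symm (HilbPolyLib.isCoh_tensor hinv (CurvLib.isCoh_quotMod I))
      have hc2 : Coh.IsCoh S.X₂ := QCohLib.isCoh_of_iso e2.symm (CurvLib.isCoh_quotMod _)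
      have hc3 : Coh.IsCoh S.X₃ := QCohLib.isCoh_of_iso e3.symm (CurvLib.isCoh_quotMod _)
      have h := χZ_add (κ := κ) ι hS hc2 ((hkil (j + 1) hj).of_iso e2.symm) hc1 hc3
      simp only [χZ] at h ⊢ ih
      rw [CurvLib.euler_congr (k := κ) ((Scheme.Modules.pullback ι).mapIso e2.symm), h,
        CurvLib.euler_congr (k := κ) ((Scheme.Modules.pullback ι).mapIso e3), ih (by omega)]
      obtain ⟨q⟩ := SurfNumLib.quotMod_ker_iso I.subschemeι
      rw [Scheme.IdealSheafData.ker_subschemeι] at q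
      obtain ⟨p⟩ := NumTrivLib.nonempty_proj I.subschemeι (Coh.structureModule I.subscheme) hinv
      obtain ⟨b⟩ := hpow j
      let e4 : S.X₁ ≅ (Coh.push ι).obj ((Coh.push jD).obj (CohB1.tensorPow N j)) :=
        e1 ≪≫ HilbPolyLib.congrRight _ q ≪≫ p ≪≫
          (Coh.push I.subschemeι).mapIso (HilbPolyLib.swapIso _ _ ≪≫ HilbPolyLib.unitLeft _ ≪≫ b) ≪≫
          ((Scheme.Modules.pushforwardCongr hjD).app _).symm ≪≫ ((Scheme.Modules.pushforwardComp jD ι).app _).symm
      haveI : Coh.IsQCoh (CohB1.tensorPow N j) :=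
        (QCohLib.isCoh_of_iso b (CurvLib.isCoh_of_isInvertible (AmpleDevLib.isInvertible_pb _ hinv))).1
      rw [CurvLib.euler_congr (k := κ) ((Scheme.Modules.pullback ι).mapIso e4 ≪≫ CycKSuppLib.pullPushIso ι _),
        ← (PushLinLib.euler_push κ jD rfl (CohB1.tensorPow N j)).2,
        euler_tensorPow_of_torsion κ I.subscheme hdD N hN hm htor j]
      push_cast
      ring
  have h := hmain m le_rfl
  rw [hIm] at h
  obtain ⟨q⟩ := SurfNumLib.quotMod_ker_iso ι
  simp only [χZ] at h
  rw [CurvLib.euler_congr (k := κ) ((Scheme.Modules.pullback ι).mapIso q ≪≫ CycKSuppLib.pullPushIso ι _)] at h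
  exact ⟨_, h⟩

end MultFibLib
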